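import Mathlib.AlgebraicGeometry.Morphisms.FlatDescent
import Mathlib.AlgebraicGeometry.Morphisms.Flat
import Mathlib.AlgebraicGeometry.Morphisms.Preimmersion
import Mathlib.AlgebraicGeometry.Stalk
import Mathlib.AlgebraicGeometry.QuasiAffine
import Groth.Agent.Lib.GrpSchField.AffineDescent

/-!
# Descent along faithfully flat morphisms which need not be quasi-compact
-/

open CategoryTheory CategoryTheory.Limits AlgebraicGeometry IsLocalRing

namespace GrothLib.FFDesc

universe u

variable {X Y Y' : Scheme.{u}}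

/-- A quasi-compact morphism which is an isomorphism over every local ring of the base is one. -/
theorem isIso_of_forall_stalk (f : X ⟶ Y) [QuasiCompact f]
    (h : ∀ y, IsIso (pullback.snd f (Y.fromSpecStalk y))) : IsIso f := by
  have hfac : ∀ y, (inv (pullback.snd f (Y.fromSpecStalk y)) ≫ pullback.fst f (Y.fromSpecStalk y)) ≫ f =
      Y.fromSpecStalk y := fun y => by
    simp [pullback.condition]
  have hsurj : Function.Surjective f := fun y => by
    refine ⟨(inv (pullback.snd f (Y.fromSpecStalk y)) ≫ pullback.fst f (Y.fromSpecStalk y)) (closedPoint _), ?_⟩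
    rw [← Scheme.Hom.comp_apply, hfac, Scheme.fromSpecStalk_closedPoint]
  have hlift : ∀ (y : Y) (x : X), f x ⤳ y →
      ∃ t, (inv (pullback.snd f (Y.fromSpecStalk y)) ≫ pullback.fst f (Y.fromSpecStalk y)) t = x ∧
        Y.fromSpecStalk y t = f x := by
    intro y x hx
    obtain ⟨t, ht⟩ : f x ∈ Set.range (Y.fromSpecStalk y) := by rw [Scheme.range_fromSpecStalk]; exact hx
    obtain ⟨z, hz1, hz2⟩ := Scheme.Pullback.exists_preimage_pullback (f := f) (g := Y.fromSpecStalk y) x t ht.symm
    refine ⟨t, ?_, ht⟩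
    rw [Scheme.Hom.comp_apply, ← hz2, ← Scheme.Hom.comp_apply (pullback.snd _ _), IsIso.hom_inv_id]
    exact hz1
  have hinj : Function.Injective f := by
    intro x₁ x₂ e
    obtain ⟨t₁, h₁, e₁⟩ := hlift (f x₁) x₁ specializes_rfl
    obtain ⟨t₂, h₂, e₂⟩ := hlift (f x₁) x₂ (specializes_of_eq e.symm)
    rw [← h₁, ← h₂, (Y.fromSpecStalk (f x₁)).isEmbedding.injective (e₁.trans (e.trans e₂.symm))]
  have hclosed : IsClosedMap f := by
    rw [isClosedMap_iff_specializingMap]
    intro x y (hxy : f x ⤳ y)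
    obtain ⟨t, ht, -⟩ := hlift y x hxy
    refine ⟨(inv (pullback.snd f (Y.fromSpecStalk y)) ≫ pullback.fst f (Y.fromSpecStalk y)) (closedPoint _), ?_, ?_⟩
    · show x ⤳ _
      rw [← ht]
      exact (IsLocalRing.specializes_closedPoint t).map (Scheme.Hom.continuous _)
    · rw [← Scheme.Hom.comp_apply, hfac, Scheme.fromSpecStalk_closedPoint]
  have hemb : Topology.IsOpenEmbedding f :=
    (isHomeomorph_iff_continuous_isClosedMap_bijective.mpr ⟨f.continuous, hclosed, hinj, hsurj⟩).isOpenEmbedding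
  have hst : ∀ x, IsIso (f.stalkMap x) := by
    intro x
    have := h (f x)
    let q := inv (pullback.snd f (Y.fromSpecStalk (f x))) ≫ pullback.fst f (Y.fromSpecStalk (f x))
    have hq : q (closedPoint _) = x := hinj (by
      rw [← Scheme.Hom.comp_apply, hfac, Scheme.fromSpecStalk_closedPoint])
    obtain ⟨ψ, hψ⟩ : ∃ ψ, Spec.map ψ ≫ X.fromSpecStalk x = q := by
      have : ∀ x' : X, q (closedPoint _) = x' → ∃ ψ, Spec.map ψ ≫ X.fromSpecStalk x' = q := fun x' hx' => by
        subst hx'
        exact ⟨Scheme.stalkClosedPointTo q, Scheme.Spec_stalkClosedPointTo_fromSpecStalk q⟩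
      exact this x hq
    have hφ : Spec.map (f.stalkMap x) ≫ q = X.fromSpecStalk x := by
      let l := pullback.lift (X.fromSpecStalk x) (Spec.map (f.stalkMap x))
        (Scheme.SpecMap_stalkMap_fromSpecStalk f).symm
      have : l = Spec.map (f.stalkMap x) ≫ inv (pullback.snd f (Y.fromSpecStalk (f x))) := by
        rw [IsIso.eq_comp_inv, pullback.lift_snd]
      rw [← pullback.lift_fst (X.fromSpecStalk x) (Spec.map (f.stalkMap x))
        (Scheme.SpecMap_stalkMap_fromSpecStalk f).symm]
      show _ = l ≫ _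
      rw [this]
      exact (Category.assoc _ _ _).symm
    refine ⟨ψ, ?_, ?_⟩
    · apply Spec.map_injective
      rw [Spec.map_comp, Spec.map_id, ← cancel_mono (Y.fromSpecStalk (f x)), Category.assoc,
        Scheme.SpecMap_stalkMap_fromSpecStalk, Category.id_comp, ← Category.assoc, hψ]
      exact hfac _
    · apply Spec.map_injective
      rw [Spec.map_comp, Spec.map_id, ← cancel_mono (X.fromSpecStalk x), Category.assoc, hψ, hφ, Category.id_comp]
  have : IsOpenImmersion f := IsOpenImmersion.iff_isIso_stalkMap.mpr ⟨hemb, hst⟩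
  exact (isIso_iff_isOpenImmersion_and_surjective f).mpr ⟨inferInstance, ⟨hsurj⟩⟩

variable (f : X ⟶ Y) (g : Y' ⟶ Y) [Flat g]

/-- The map of local schemes of a flat morphism is faithfully flat. -/
lemma surjective_SpecMap_stalkMap (y' : Y') :
    Surjective (Spec.map (g.stalkMap y')) ∧ Flat (Spec.map (g.stalkMap y')) := by
  refine ⟨⟨fun z => ?_⟩, ?_⟩
  · have hz : Y.fromSpecStalk (g y') z ⤳ g y' := by
      have : Y.fromSpecStalk (g y') z ∈ Set.range (Y.fromSpecStalk (g y')) := ⟨z, rfl⟩
      rwa [Scheme.range_fromSpecStalk] at this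
    obtain ⟨w, hw, hgw⟩ := Flat.generalizingMap g hz
    obtain ⟨t, rfl⟩ : w ∈ Set.range (Y'.fromSpecStalk y') := by rw [Scheme.range_fromSpecStalk]; exact hw
    refine ⟨t, (Y.fromSpecStalk (g y')).isEmbedding.injective ?_⟩
    rw [← hgw, ← Scheme.Hom.comp_apply, Scheme.SpecMap_stalkMap_fromSpecStalk, Scheme.Hom.comp_apply]
  · exact (HasRingHomProperty.Spec_iff (P := @Flat)).mpr (Flat.stalkMap g y')

lemma isPullback_stalk (y' : Y') :
    ∃ m : pullback (pullback.snd f g) (Y'.fromSpecStalk y') ⟶ pullback f (Y.fromSpecStalk (g y')),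
      IsPullback m (pullback.snd (pullback.snd f g) (Y'.fromSpecStalk y'))
        (pullback.snd f (Y.fromSpecStalk (g y'))) (Spec.map (g.stalkMap y')) := by
  have big := ((IsPullback.of_hasPullback (pullback.snd f g) (Y'.fromSpecStalk y')).flip.paste_vert
    (IsPullback.of_hasPullback f g).flip).flip
  rw [show Y'.fromSpecStalk y' ≫ g = Spec.map (g.stalkMap y') ≫ Y.fromSpecStalk (g y') from
    (Scheme.SpecMap_stalkMap_fromSpecStalk g).symm] at big
  exact ⟨_, IsPullback.of_right' big (IsPullback.of_hasPullback f (Y.fromSpecStalk (g y')))⟩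

lemma flat_fromSpecStalk' (Z : Scheme.{u}) (z : Z) : Flat (Z.fromSpecStalk z) := by
  obtain ⟨_, ⟨U, hU, rfl⟩, hzU, -⟩ :=
    Z.isBasis_affineOpens.exists_subset_of_mem_open (Set.mem_univ z) isOpen_univ
  rw [← hU.fromSpecStalk_eq_fromSpecStalk hzU, IsAffineOpen.fromSpecStalk]
  have : Flat (Spec.map (Z.presheaf.germ U z hzU)) := by
    rw [HasRingHomProperty.Spec_iff (P := @Flat)]
    let := (Z.presheaf.germ U z hzU).hom.toAlgebra
    have := hU.isLocalization_stalk ⟨z, hzU⟩
    exact IsLocalization.flat _ (hU.primeIdealOf ⟨z, hzU⟩).asIdeal.primeCompl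
  infer_instance

/-- Being an isomorphism descends along faithfully flat morphisms, for quasi-compact morphisms. -/
theorem isIso_of_baseChange [Surjective g] [QuasiCompact f] [IsIso (pullback.snd f g)] : IsIso f := by
  refine isIso_of_forall_stalk f fun y => ?_
  obtain ⟨y', rfl⟩ := g.surjective y
  obtain ⟨h1, h2⟩ := surjective_SpecMap_stalkMap g y'
  obtain ⟨m, hm⟩ := isPullback_stalk f g y'
  exact MorphismProperty.of_isPullback_of_descendsAlong (P := MorphismProperty.isomorphisms Scheme.{u})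
    (Q := @Surjective ⊓ @Flat ⊓ @QuasiCompact) hm.flip ⟨⟨h1, h2⟩, inferInstance⟩
    (inferInstanceAs (IsIso (pullback.snd (pullback.snd f g) (Y'.fromSpecStalk y'))))

/-- A quasi-compact quasi-separated scheme over an affine scheme with affine localisations is affine. -/
theorem isAffine_of_forall_stalk [IsAffine Y] [CompactSpace X] [QuasiSeparatedSpace X]
    (h : ∀ y, IsAffine (pullback f (Y.fromSpecStalk y))) : IsAffine X := by
  let p : (y : Y) → _ := fun y => Y.fromSpecStalk y
  suffices IsIso X.toSpecΓ from ⟨this⟩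
  refine isIso_of_forall_stalk _ fun b => ?_
  let h0 := Spec.map f.appTop ≫ Y.isoSpec.inv
  have h1 : X.toSpecΓ ≫ h0 = f := by
    rw [← Scheme.toSpecΓ_naturality_assoc, ← Scheme.isoSpec_hom, Iso.hom_inv_id, Category.comp_id]
  set y := h0 b
  have := h y
  have : Flat (Y.fromSpecStalk y) := flat_fromSpecStalk' Y y
  have hsq := IsPullback.of_hasPullback f (Y.fromSpecStalk y)
  have hi := isIso_pushoutSection_of_isQuasiSeparated_of_flat_right hsq
    (US := ⊤) (UT := ⊤) (UX := ⊤) (UY := ⊤) (by simp) (by simp) (by simp)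
    (isAffineOpen_top Y) (isAffineOpen_top _) isCompact_univ isQuasiSeparated_univ
  rw [isIso_pushoutSection_iff] at hi
  simp only [Scheme.Hom.appLE] at hi
  have hpo : IsPushout f.appTop (Y.fromSpecStalk y).appTop (pullback.fst f (Y.fromSpecStalk y)).appTop
      (pullback.snd f (Y.fromSpecStalk y)).appTop := by simpa using hi
  have bot : IsPullback (pullback.fst f (Y.fromSpecStalk y) ≫ X.toSpecΓ) (pullback.snd f (Y.fromSpecStalk y))
      h0 (Y.fromSpecStalk y) :=
    IsPullback.of_iso (isPullback_SpecMap_of_isPushout _ _ _ _ hpo) (pullback f (Y.fromSpecStalk y)).isoSpec.symm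
      (Iso.refl _) (Spec (Y.presheaf.stalk y)).isoSpec.symm Y.isoSpec.symm
      (by simp [Scheme.toSpecΓ_naturality])
      (by rw [Iso.symm_hom, Iso.symm_hom, Scheme.isoSpec_inv_naturality])
      (by simp [h0]) (by rw [Iso.symm_hom, Iso.symm_hom, Scheme.isoSpec_inv_naturality])
  have sq : IsPullback (pullback.fst f (Y.fromSpecStalk y)) (𝟙 _) X.toSpecΓ
      (pullback.fst f (Y.fromSpecStalk y) ≫ X.toSpecΓ) :=
    IsPullback.of_bot (by rw [Category.id_comp, h1]; exact hsq) (by simp) bot
  let l := bot.lift ((Spec Γ(X, ⊤)).fromSpecStalk b) (Spec.map (h0.stalkMap b))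
    (Scheme.SpecMap_stalkMap_fromSpecStalk h0).symm
  have hl : (Spec Γ(X, ⊤)).fromSpecStalk b = l ≫ (pullback.fst f (Y.fromSpecStalk y) ≫ X.toSpecΓ) :=
    (bot.lift_fst _ _ _).symm
  rw [hl]
  have : IsIso (pullback.snd X.toSpecΓ (pullback.fst f (Y.fromSpecStalk y) ≫ X.toSpecΓ)) :=
    IsIso.of_isIso_fac_left sq.isoPullback_hom_snd
  rw [← pullbackLeftPullbackSndIso_inv_snd_snd]
  infer_instance

end GrothLib.FFDesc
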